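import Cfsg.Agent.Lib.Coprime.PQ

/-!
# Coprime actions fixing the elements of small order

* `le_centralizer_of_fixing_order_four`: the case p = 2, elements of order dividing 4.
* `le_centralizer_of_fixing_small`: order dividing p, or dividing 4 when p = 2.
* `mem_centralizer_of_small_chain`: an element of order prime to p, normalising a p-subgroup and moving each
  small element only one step down a chain, centralises it.
-/

open Subgroup
open scoped commutatorElement

namespace Cfsg.Agent.SmallFix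
open Cfsg.Agent.Coprime

variable {G : Type*} [Group G] [Finite G]

/-- A coprime action on a `p`-group, `p = 2`, fixing every element of order dividing 4, is trivial. -/
theorem le_centralizer_of_fixing_order_four (p : ℕ) [hp : Fact p.Prime] (hp2 : p = 2)
    {A D : Subgroup G} (hD : IsPGroup p D) (hA : A ≤ Subgroup.normalizer (D : Set G))
    (hcop : (Nat.card A).Coprime p)
    (hfix : ∀ x ∈ D, x ^ 4 = 1 → x ∈ Subgroup.centralizer (A : Set G)) :
    A ≤ Subgroup.centralizer (D : Set G) := by
  induction hn : Nat.card D using Nat.strong_induction_on generalizing D with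
  | _ n ih =>
  subst hn
  have hcopD := coprime_of_isPGroup hcop hD
  have hsolv := isSolvable_of_isPGroup hD
  have hsub : ∀ M : Subgroup G, M < D → A ≤ Subgroup.normalizer (M : Set G) →
      A ≤ Subgroup.centralizer (M : Set G) := fun M hM hAM =>
    ih _ ((Subgroup.card_le_of_le hM.le).lt_of_ne
      fun he => hM.ne (Subgroup.eq_of_le_of_card_ge hM.le he.ge))
      (hD.to_le hM.le) hAM (fun x hx => hfix x (hM.le hx)) rfl
  have hcc := commutator_commutator_eq hA hcopD (Or.inr hsolv)
  have fin : ⁅D, A⁆ ≤ Subgroup.centralizer (A : Set G) → A ≤ Subgroup.centralizer (D : Set G) := by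
    intro h
    rw [Subgroup.commutator_eq_bot_iff_le_centralizer.2 h] at hcc
    exact Subgroup.le_centralizer_iff.1
      (Subgroup.commutator_eq_bot_iff_le_centralizer.1 hcc.symm)
  rcases (commutator_le_left' hA).lt_or_eq with hlt | heq
  · exact fin (Subgroup.le_centralizer_iff.1
      (hsub _ hlt (le_normalizer_commutator hA Subgroup.le_normalizer)))
  refine fin ?_
  by_cases hD1 : D = ⊥
  · rw [hD1, Subgroup.commutator_bot_left]; exact bot_le
  set M : Subgroup G := (frattini D).map D.subtype with hMdef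
  have hMlt : M < D := lt_of_le_of_ne (Subgroup.map_subtype_le _) fun he => hD1 <| by
    have h1 : frattini D = ⊤ := Subgroup.map_injective D.subtype_injective (by
      rw [← hMdef, he, ← MonoidHom.range_eq_map, Subgroup.range_subtype])
    have h2 : (⊥ : Subgroup D) = ⊤ := frattini_nongenerating (by rw [bot_sup_eq, h1])
    rw [← Subgroup.range_subtype D, MonoidHom.range_eq_map, ← h2, Subgroup.map_bot]
  have hAM : A ≤ Subgroup.normalizer (M : Set G) := fun a ha => by
    refine mem_normalizer_of_forall ?_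
    rintro _ ⟨x, hx, rfl⟩
    refine ⟨D.normalizerMonoidHom ⟨a, hA ha⟩ x, ?_, rfl⟩
    exact (Subgroup.characteristic_iff_le_comap.1 inferInstance _) hx
  have hMC : A ≤ Subgroup.centralizer (M : Set G) := hsub M hMlt hAM
  -- `M` is central in `D`
  have hMD : D ≤ Subgroup.centralizer (M : Set G) := by
    have h1 : ⁅⁅D, A⁆, M⁆ = ⊥ := by
      refine Subgroup.commutator_commutator_eq_bot_of_rotate ?_ ?_
      · rw [Subgroup.commutator_eq_bot_iff_le_centralizer.2 hMC, Subgroup.commutator_bot_left]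
      · rw [Subgroup.commutator_eq_bot_iff_le_centralizer]
        refine le_trans ?_ (Subgroup.le_centralizer_iff.1 hMC)
        rw [Subgroup.commutator_le]
        intro m hm d hd
        exact ⟨⁅(⟨m, Subgroup.map_subtype_le _ hm⟩ : D), ⟨d, hd⟩⁆,
          PGroup.commutatorElement_mem_frattini hD _ _, rfl⟩
    rw [heq] at h1
    exact Subgroup.commutator_eq_bot_iff_le_centralizer.1 h1
  rw [Subgroup.commutator_le]
  intro x hx a ha
  set y : D := D.normalizerMonoidHom ⟨a, hA ha⟩ ⟨x, hx⟩ with hy
  set u : D := (⟨x, hx⟩ : D)⁻¹ with hu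
  have hcen : ∀ z : D, z ∈ frattini D → ∀ w : D, Commute w z := fun z hz w =>
    Subtype.ext (hMD w.2 (z : G) ⟨z, hz, rfl⟩).symm
  have hpowp : y ^ p = (⟨x, hx⟩ : D) ^ p := by
    have h1 := hMC ha ((x : G) ^ p) ⟨(⟨x, hx⟩ : D) ^ p, PGroup.pow_mem_frattini hD _, by simp⟩
    refine Subtype.ext ?_
    rw [hy]
    show (a * x * a⁻¹) ^ p = x ^ p
    rw [conj_pow, mul_inv_eq_iff_eq_mul]
    exact h1.symm
  have hc : ⁅y, u⁆ ^ p = 1 := by
    have hcy : Commute y ⁅y, u⁆ := hcen _ (PGroup.commutatorElement_mem_frattini hD _ _) y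
    rw [← PGroup.commutator_pow_left hcy p, commutatorElement_eq_one_iff_commute]
    exact (hcen _ (PGroup.pow_mem_frattini hD _) u).symm
  have hzp : (u * y) ^ 4 = 1 := by
    subst hp2
    have h2 : (u * y) ^ 2 = ⁅y, u⁆ := by
      rw [PGroup.mul_pow_eq (hcen _ (PGroup.commutatorElement_mem_frattini hD _ _) u)
        (hcen _ (PGroup.commutatorElement_mem_frattini hD _ _) y) 2, Nat.choose_self, pow_one, mul_assoc, hpowp, hu,
        inv_pow, inv_mul_cancel, mul_one]
    rw [show (4 : ℕ) = 2 * 2 from rfl, pow_mul, h2, hc]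
  have hzC : ((u * y : D) : G) ∈ Subgroup.centralizer (A : Set G) :=
    hfix _ (u * y).2 (by rw [← Subgroup.coe_pow, hzp, Subgroup.coe_one])
  -- `[x, a] = (x * (u * y) * x⁻¹)⁻¹`, a conjugate of a central-modulo-`A` element
  have hfix' : ∀ b ∈ A, b * (x * ((u * y : D) : G) * x⁻¹) = x * ((u * y : D) : G) * x⁻¹ * b := by
    intro b hb
    have hm : x * ((u * y : D) : G) * x⁻¹ * ((u * y : D) : G)⁻¹ ∈ M :=
      ⟨⁅(⟨x, hx⟩ : D), u * y⁆, PGroup.commutatorElement_mem_frattini hD _ _, rfl⟩
    have hmC : x * ((u * y : D) : G) * x⁻¹ * ((u * y : D) : G)⁻¹ ∈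
        Subgroup.centralizer (A : Set G) := Subgroup.le_centralizer_iff.1 hMC hm
    have := Subgroup.mul_mem _ hmC hzC
    rw [inv_mul_cancel_right] at this
    exact this b hb
  have h5 : ⁅x, a⁆ = (x * ((u * y : D) : G) * x⁻¹)⁻¹ := by
    rw [hu, hy]
    show x * a * x⁻¹ * a⁻¹ = (x * (x⁻¹ * (a * x * a⁻¹)) * x⁻¹)⁻¹
    group
  rw [h5]
  exact Subgroup.inv_mem _ hfix'


/-- A coprime action fixing every small element of a p-group is trivial. -/
theorem le_centralizer_of_fixing_small (p : ℕ) [hp : Fact p.Prime] {A D : Subgroup G} (hD : IsPGroup p D)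
    (hA : A ≤ Subgroup.normalizer (D : Set G)) (hcop : (Nat.card A).Coprime p)
    (hfix : ∀ x ∈ D, (x ^ p = 1 ∨ (p = 2 ∧ x ^ 4 = 1)) → x ∈ Subgroup.centralizer (A : Set G)) :
    A ≤ Subgroup.centralizer (D : Set G) := by
  by_cases hp2 : p = 2
  · exact le_centralizer_of_fixing_order_four p hp2 hD hA hcop fun x hx h => hfix x hx (Or.inr ⟨hp2, h⟩)
  · exact le_centralizer_of_fixing_order_p p hp2 hD hA hcop fun x hx h =>
      hfix x hx (Or.inl (h ▸ pow_orderOf_eq_one x))

/-- If an element `n` of order prime to `p` normalises a `p`-subgroup `R` and and its powers move every small element of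
`R ⊓ T (i+1)` inside its coset of `T i`, for a chain starting at `⊥` that covers `R`, it centralises `R`. -/
theorem mem_centralizer_of_small_chain (p : ℕ) [hp : Fact p.Prime] {R : Subgroup G} (hR : IsPGroup p R) {n : G}
    (hn : n ∈ Subgroup.normalizer (R : Set G)) (hco : (orderOf n).Coprime p) (T : ℕ → Subgroup G) (h0 : T 0 = ⊥)
    (hstab : ∀ i (k : ℕ), ∀ a ∈ R, a ∈ T (i + 1) → (a ^ p = 1 ∨ (p = 2 ∧ a ^ 4 = 1)) →
      a⁻¹ * (n ^ k * a * (n ^ k)⁻¹) ∈ T i)
    (hall : ∀ a ∈ R, (a ^ p = 1 ∨ (p = 2 ∧ a ^ 4 = 1)) → ∃ i, a ∈ T i) :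
    n ∈ Subgroup.centralizer (R : Set G) := by
  have hcard : (Nat.card (Subgroup.zpowers n)).Coprime p := by rwa [Nat.card_zpowers]
  have hRn : Subgroup.zpowers n ≤ Subgroup.normalizer (R : Set G) := Subgroup.zpowers_le.mpr hn
  suffices hfix : ∀ i, ∀ a ∈ R, a ∈ T i → (a ^ p = 1 ∨ (p = 2 ∧ a ^ 4 = 1)) → n * a = a * n by
    refine le_centralizer_of_fixing_small p hR hRn hcard ?_ (Subgroup.mem_zpowers n)
    intro a ha hsmall
    obtain ⟨i, hi⟩ := hall a ha hsmall
    rw [Subgroup.mem_centralizer_iff]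
    rintro _ ⟨k, rfl⟩
    exact ((show Commute n a from hfix i a ha hi hsmall).zpow_left k).eq
  intro i
  induction i with
  | zero =>
    intro a _ ha _
    rw [h0, Subgroup.mem_bot] at ha
    simp [ha]
  | succ i ih =>
    intro a ha hai hsmall
    set c : ℕ → G := fun k => a⁻¹ * (n ^ k * a * (n ^ k)⁻¹) with hc
    have hcT : ∀ k, c k ∈ T i := fun k => hstab i k a ha hai hsmall
    have hcR : ∀ k, c k ∈ R := fun k => mul_mem (inv_mem ha)
      ((Subgroup.mem_normalizer_iff.mp (pow_mem hn k) a).mp ha)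
    have hstep : ∀ k, n * c k * n⁻¹ = (c 1)⁻¹ * c (k + 1) := fun k => by
      simp only [hc, pow_one, pow_succ']; group
    set L := Subgroup.closure (Set.range c) with hL
    have hLR : L ≤ R ⊓ T i := by
      rw [hL, Subgroup.closure_le]
      rintro _ ⟨k, rfl⟩
      exact ⟨hcR k, hcT k⟩
    have hcL : ∀ k, c k ∈ L := fun k => Subgroup.subset_closure ⟨k, rfl⟩
    have hnL : n ∈ Subgroup.normalizer (L : Set G) := by
      refine mem_normalizer_of_forall fun x hx => ?_
      induction hx using Subgroup.closure_induction with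
      | mem x hx => obtain ⟨k, rfl⟩ := hx; rw [hstep]; exact mul_mem (inv_mem (hcL 1)) (hcL _)
      | one => simp
      | mul x y _ _ hx hy => rw [← conj_mul]; exact mul_mem hx hy
      | inv x _ hx => rw [← conj_inv]; exact inv_mem hx
    have hcen : n ∈ Subgroup.centralizer (L : Set G) := by
      refine le_centralizer_of_fixing_small p (hR.to_le (hLR.trans inf_le_left)) (Subgroup.zpowers_le.mpr hnL) hcard
        (fun x hx hs => ?_) (Subgroup.mem_zpowers n)
      rw [Subgroup.mem_centralizer_iff]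
      rintro _ ⟨k, rfl⟩
      exact ((show Commute n x from ih x (hLR hx).1 (hLR hx).2 hs).zpow_left k).eq
    have hpow : ∀ k, c k = c 1 ^ k := by
      intro k
      induction k with
      | zero => simp [hc]
      | succ k ihk =>
        have h1 : n * c k = c k * n := (Subgroup.mem_centralizer_iff.mp hcen _ (hcL k)).symm
        have h2 := hstep k
        rw [h1, mul_inv_cancel_right, eq_inv_mul_iff_mul_eq] at h2
        rw [← h2, ihk, ← pow_succ']
    have hm : c 1 ^ orderOf n = 1 := by
      rw [← hpow]; simp [hc, pow_orderOf_eq_one]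
    obtain ⟨e, he⟩ := hR ⟨_, hcR 1⟩
    have he' : c 1 ^ p ^ e = 1 := by simpa using congrArg Subtype.val he
    have h1 : c 1 = 1 := orderOf_eq_one_iff.mp (Nat.eq_one_of_dvd_coprimes (hco.pow_right e)
      (orderOf_dvd_of_pow_eq_one hm) (orderOf_dvd_of_pow_eq_one he'))
    simp only [hc, pow_one, inv_mul_eq_one] at h1
    exact (eq_mul_inv_iff_mul_eq.mp h1).symm

end Cfsg.Agent.SmallFix
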